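import Groth.Agent.VarietyA.GeomRed
import Groth.Agent.Sga3C.ClosedSub
import Groth.Agent.Sga3C.GeomRed

/-!
# Points with values in separable extensions

* `K543.SepPts.isGeometricallyReduced_residueField` : the residue field at a generic point of a geometrically
  reduced scheme over a field `k` is a separable (geometrically reduced) extension of `k`;
* `K543.SepPts.factors_of_sepPts` : if a closed subscheme `Z ⊆ G` contains all points of `G` with values in separable
  extension fields of `k` then every morphism from a geometrically reduced `k`-scheme to `G` factors through `Z`.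
-/

set_option autoImplicit false
universe u
open CategoryTheory AlgebraicGeometry Groth.Agent.Sga3C.ClosedSub

namespace K543.SepPts

/-- a morphism from a reduced scheme with set-theoretic image in a closed subscheme factors -/
lemma ker_le_ker_of_isReduced {X Y Z : Scheme.{u}} [IsReduced X] (i : Z ⟶ Y) [IsClosedImmersion i]
    (f : X ⟶ Y) (h : Set.range f ⊆ Set.range i) : i.ker ≤ f.ker := by
  have h1 : f.ker = Scheme.IdealSheafData.vanishingIdeal (.closure (Set.range f)) := by
    rw [← Set.image_univ, ← TopologicalSpace.Closeds.coe_top,
      ← Scheme.IdealSheafData.map_vanishingIdeal, Scheme.IdealSheafData.vanishingIdeal_top,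
      Scheme.nilradical_eq_bot, Scheme.IdealSheafData.map_bot]
  rw [h1, ← Scheme.IdealSheafData.le_support_iff_le_vanishingIdeal,
    TopologicalSpace.Closeds.closure_le]
  exact h.trans i.range_subset_ker_support

section
attribute [local instance] Curv2.resAlgebra Curv2.stalkAlgebra

variable (k : Type u) [Field k] (X : Scheme.{u}) [X.Over (Spec (CommRingCat.of k))]

theorem isGeometricallyReduced_residueField (h : GeometricallyReduced (X ↘ Spec (CommRingCat.of k))) (x : X)
    (hx : ∀ y : X, y ⤳ x → y = x) : Algebra.IsGeometricallyReduced k (X.residueField x) := by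
  have h1 : Algebra.IsGeometricallyReduced k (X.presheaf.stalk x) :=
    (Groth.Agent.VarietyA.GeomRed.geometricallyReduced_iff_forall_stalk k X).1 h x
  have h2 : _root_.IsReduced (X.presheaf.stalk x) := Algebra.isReduced_of_isGeometricallyReduced k
  have h3 : Subsingleton (PrimeSpectrum (X.presheaf.stalk x)) := by
    constructor
    intro p q
    have hp : ∀ p : Spec (X.presheaf.stalk x), X.fromSpecStalk x p = x := by
      intro p
      apply hx
      have : X.fromSpecStalk x p ∈ Set.range (X.fromSpecStalk x) := ⟨p, rfl⟩
      rwa [Scheme.range_fromSpecStalk] at this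
    exact (X.fromSpecStalk x).isEmbedding.injective ((hp p).trans (hp q).symm)
  have h4 : IsField (X.presheaf.stalk x) := PrimeSpectrum.subsingleton_iff_isField_of_isReduced.1 h3
  have h5 : Function.Bijective (X.residue x).hom := by
    let _ := h4.toField
    exact ⟨RingHom.injective (IsLocalRing.residue (X.presheaf.stalk x)), IsLocalRing.residue_surjective⟩
  let φ : X.presheaf.stalk x →ₐ[k] X.residueField x :=
    { toRingHom := (X.residue x).hom, commutes' := fun _ => rfl }
  exact Groth.Agent.VarietyA.GeomRedAlg.isGeometricallyReduced_of_algEquiv (AlgEquiv.ofBijective φ h5)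

end

theorem factors_of_sepPts {k : Type u} [Field k] {Z G T : Over (Spec (CommRingCat.of k))} (z : Z ⟶ G)
    [IsClosedImmersion z.left] (f : T ⟶ G) (hT : GeometricallyReduced T.hom)
    (hpts : ∀ (k' : Type u) [Field k'] [Algebra k k'] [Algebra.IsGeometricallyReduced k k']
      (x : Spec (CommRingCat.of k') ⟶ G.left), x ≫ G.hom = Spec.map (CommRingCat.ofHom (algebraMap k k')) →
      ∃ y : Spec (CommRingCat.of k') ⟶ Z.left, y ≫ z.left = x) :
    ∃ g : T ⟶ Z, g ≫ z = f := by
  have hTr : IsReduced T.left := self_of_isIntegral_of_geometrically hT.geometrically_isReduced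
  rw [over_factors_iff]
  apply ker_le_ker_of_isReduced
  rintro _ ⟨t, rfl⟩
  -- a generic point of an irreducible component through `t`
  obtain ⟨η, hη, hηt⟩ : ∃ η : T.left, (∀ y : T.left, y ⤳ η → y = η) ∧ η ⤳ t := by
    obtain ⟨C, hC, htC⟩ := exists_mem_irreducibleComponents_subset_of_isIrreducible _
      (isIrreducible_singleton (x := t))
    have hCi : IsIrreducible C := hC.1
    have hCc : IsClosed C := isClosed_of_mem_irreducibleComponents C hC
    have hg : IsGenericPoint hCi.genericPoint C := hCi.isGenericPoint_genericPoint hCc
    refine ⟨hCi.genericPoint, fun y hy => ?_, ?_⟩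
    · have h1 : C ⊆ closure {y} := by
        rw [← hg.def]
        exact closure_minimal (Set.singleton_subset_iff.2 hy.mem_closure) isClosed_closure
      have h2 : closure {y} ⊆ C := hC.2 isIrreducible_singleton.closure h1
      exact IsGenericPoint.eq (S := C) (h2.antisymm h1) hg
    · rw [specializes_iff_mem_closure, hg.def]
      exact htC rfl
  -- the residue field at `η` is a separable extension of `k`
  let _ : T.left.Over (Spec (CommRingCat.of k)) := ⟨T.hom⟩
  let _ := Curv2.resAlgebra k T.left η
  have h2 : Algebra.IsGeometricallyReduced k (T.left.residueField η) :=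
    isGeometricallyReduced_residueField k T.left hT η hη
  have h3 : (T.left.fromSpecResidueField η ≫ f.left) ≫ G.hom =
      Spec.map (CommRingCat.ofHom (algebraMap k (T.left.residueField η))) := by
    rw [Category.assoc, Over.w, Scheme.fromSpecResidueField, Category.assoc,
      Groth.Agent.VarietyA.StalkBC.fromSpecStalk_comp T.hom η, ← Spec.map_comp]
    rfl
  obtain ⟨y, hy⟩ := hpts (T.left.residueField η) (T.left.fromSpecResidueField η ≫ f.left) h3
  have h4 : f.left η ∈ Set.range z.left := by
    refine ⟨y (IsLocalRing.closedPoint _), ?_⟩
    change (y ≫ z.left) _ = _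
    rw [hy]
    change f.left (T.left.fromSpecResidueField η (IsLocalRing.closedPoint _)) = _
    exact congrArg _ (Scheme.fromSpecResidueField_apply η _)
  have h6 : IsClosed (Set.range z.left) := z.left.isClosedEmbedding.isClosed_range
  exact (hηt.map f.left.continuous).mem_closed h6 h4

end K543.SepPts
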