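import Groth.Agent.S3028
import Groth.Agent.S3023
import Groth.Agent.PRed.K543.SepPts

/-!
# The closed subgroup generated by a family of pointed connected schemes

`K543.Generated.exists_generated` : let `φ : X × F → U` be a morphism to a group scheme locally of finite type over a
field, `X` and `F` geometrically reduced, `F` geometrically connected with a rational point `e` such that
`φ(x, e) = 1`.  Then the smallest closed subgroup scheme of `U` through which `φ` factors is smooth and connected.
-/

set_option autoImplicit false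
universe u
open CategoryTheory MonoidalCategory CartesianMonoidalCategory MonObj GrpObj AlgebraicGeometry
open Groth.Agent.Sga3C.ClosedSub

namespace K543.Generated

variable {k : Type u} [Field k]

theorem geometricallyConnected_of_irreducible {X Y : Scheme.{u}} (f : X ⟶ Y) [h : GeometricallyIrreducible f] :
    GeometricallyConnected f := by
  refine ⟨fun K _ y Z fst snd hZ ↦ ?_⟩
  have : IrreducibleSpace ↥Z := h.geometrically_irreducibleSpace y fst snd hZ
  infer_instance

theorem exists_generated {U X F : Over (Spec (CommRingCat.of k))} [GrpObj U] [LocallyOfFiniteType U.hom]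
    [GeometricallyReduced X.hom] [GeometricallyReduced F.hom] [GeometricallyConnected F.hom]
    (e : 𝟙_ (Over (Spec (CommRingCat.of k))) ⟶ F) (φ : X ⊗ F ⟶ U)
    (he : lift (𝟙 X) (toUnit X ≫ e) ≫ φ = 1) :
    ∃ (Γ : Over (Spec (CommRingCat.of k))) (_ : GrpObj Γ) (i : Γ ⟶ U), IsMonHom i ∧ IsClosedImmersion i.left ∧
      Smooth Γ.hom ∧ ConnectedSpace ↥Γ.left ∧ (∃ φ' : X ⊗ F ⟶ Γ, φ' ≫ i = φ) ∧
      ∀ (Γ' : Over (Spec (CommRingCat.of k))) (_ : GrpObj Γ') (i' : Γ' ⟶ U), IsMonHom i' →
        IsClosedImmersion i'.left → (∃ f'' : X ⊗ F ⟶ Γ', f'' ≫ i' = φ) → ∃ j : Γ ⟶ Γ', j ≫ i' = i := by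
  have hXF : GeometricallyReduced (X ⊗ F).hom := Groth.Agent.S3028.geometricallyReduced_tensor X F
  obtain ⟨Γ, hΓ, i, hi, hci, ⟨φ', hφ'⟩, hred, hmin⟩ := Groth.Agent.S3028.result k U (X ⊗ F) φ
  have : Mono i := mono_of_left i
  have hlft : LocallyOfFiniteType Γ.hom := by rw [← Over.w i]; infer_instance
  have hsm : Smooth Γ.hom := by
    have : GrpObj (Over.mk Γ.hom) := hΓ
    exact smooth_of_grpObj Γ.hom
  refine ⟨Γ, hΓ, i, hi, hci, hsm, ?_, ⟨φ', hφ'⟩, hmin⟩
  -- connectedness
  obtain ⟨G0, hG0, i0, hi0, hc0, -, hr0⟩ := Groth.Agent.S3023.result k Γ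
  let pt : ↥(𝟙_ (Over (Spec (CommRingCat.of k)))).left := IsLocalRing.closedPoint k
  have hred' : IsReduced (X ⊗ F).left := self_of_isIntegral_of_geometrically hXF.geometrically_isReduced
  have he' : lift (𝟙 X) (toUnit X ≫ e) ≫ φ' = 1 := by
    rw [← cancel_mono i, Category.assoc, hφ', he, MonObj.one_comp]
  have hfac : ∃ f'' : X ⊗ F ⟶ G0, f'' ≫ i0 = φ' := by
    rw [over_factors_iff]
    apply K543.SepPts.ker_le_ker_of_isReduced
    rw [hr0 pt]
    rintro _ ⟨x, rfl⟩
    -- the fibre of `X × F → X` through `x` is connected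
    have hconn : GeometricallyConnected (fst X F).left :=
      inferInstanceAs (GeometricallyConnected (Limits.pullback.fst X.hom F.hom))
    have h1 : _root_.IsPreconnected ((fst X F).left ⁻¹' {(fst X F).left x}) :=
      ((fst X F).left.isConnected_preimage_singleton ((fst X F).left x)).isPreconnected
    have h2 : _root_.IsPreconnected (φ'.left '' ((fst X F).left ⁻¹' {(fst X F).left x})) :=
      h1.image _ φ'.left.continuous.continuousOn
    let y : (X ⊗ F).left := (lift (𝟙 X) (toUnit X ≫ e)).left ((fst X F).left x)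
    have hy : (fst X F).left y = (fst X F).left x := by
      change ((lift (𝟙 X) (toUnit X ≫ e)).left ≫ (fst X F).left) _ = _
      rw [← Over.comp_left, lift_fst]
      rfl
    have hy' : φ'.left y = η[Γ].left.base pt := by
      change ((lift (𝟙 X) (toUnit X ≫ e)).left ≫ φ'.left) _ = _
      rw [← Over.comp_left, he', Hom.one_def, Over.comp_left]
      change η[Γ].left ((toUnit X).left _) = _
      congr 1
      exact Subsingleton.elim (α := ↥(Spec (CommRingCat.of k))) _ _
    refine h2.subset_connectedComponent ⟨y, hy, hy'⟩ ⟨x, rfl, rfl⟩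
  obtain ⟨f'', hf''⟩ := hfac
  obtain ⟨j, hj⟩ := hmin G0 hG0 (i0 ≫ i) inferInstance
    (by rw [Over.comp_left]; infer_instance) ⟨f'', by rw [← Category.assoc, hf'', hφ']⟩
  have hji : j ≫ i0 = 𝟙 Γ := by
    rw [← cancel_mono i, Category.assoc, hj, Category.id_comp]
  have hsurj : Set.range i0.left = Set.univ := by
    rw [Set.range_eq_univ]
    intro y
    refine ⟨j.left y, ?_⟩
    change (j.left ≫ i0.left) y = y
    rw [← Over.comp_left, hji]
    rfl
  rw [connectedSpace_iff_univ, ← hsurj]
  have := hr0 pt
  rw [show Set.range i0.left = connectedComponent (η[Γ].left.base pt) from this]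
  exact isConnected_connectedComponent

end K543.Generated
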