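import Groth.Agent.Sga3.H829.MultConv
import Groth.Agent.Sga3.H829.Central
import Groth.Agent.Sga3.H793.MultPart
import Groth.Agent.Sga3.H809.Main
import Groth.Agent.SGA3x.K6.Basic

/-!
# Closed subgroups of groups of multiplicative type over a field

* `K543.MultSub.isMultTypeConst_of_surjective` : Hopf form;
* `K543.MultSub.isMultTypeFT_of_closed` : a closed subgroup scheme of a group of multiplicative type and of finite type
  over a field is of multiplicative type;
* `K543.MultSub.isMultTypeFT_of_isTorus`.
-/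

set_option autoImplicit false
universe u
open CategoryTheory MonoidalCategory CartesianMonoidalCategory MonObj GrpObj AlgebraicGeometry
open scoped TensorProduct
open Groth.Agent.Books.AffBridge

namespace K543.MultSub

theorem isDiagonalizable_of_surjective {K : Type u} [Field K] {A B : Type u} [CommRing A] [HopfAlgebra K A]
    [CommRing B] [HopfAlgebra K B] (π : A →ₐc[K] B) (hπ : Function.Surjective π)
    (h : HopfRep.IsDiagonalizable K A) : HopfRep.IsDiagonalizable K B := by
  have h1 : Submodule.span K {a : A | IsGroupLikeElem K a} = ⊤ := h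
  change Submodule.span K {b : B | IsGroupLikeElem K b} = ⊤
  rw [eq_top_iff]
  rintro b -
  obtain ⟨a, rfl⟩ := hπ b
  have ha : a ∈ Submodule.span K {a : A | IsGroupLikeElem K a} := by rw [h1]; trivial
  induction ha using Submodule.span_induction with
  | mem x hx => exact Submodule.subset_span (IsGroupLikeElem.map π hx)
  | zero => rw [map_zero]; exact Submodule.zero_mem _
  | add x y _ _ hx hy => rw [map_add]; exact Submodule.add_mem _ hx hy
  | smul c x _ hx => rw [map_smul]; exact Submodule.smul_mem _ c hx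

theorem isMultTypeConst_of_surjective {k : Type u} [Field k] {A B : Type u} [CommRing A] [HopfAlgebra k A]
    [CommRing B] [HopfAlgebra k B] [Algebra.FiniteType k A] (π : A →ₐc[k] B) (hπ : Function.Surjective π)
    (h : SGA3b.IsMultTypeConst k A) : SGA3b.IsMultTypeConst k B := by
  let K := AlgebraicClosure k
  have h1 := Groth.Agent.Sga3.H793.MultPart.isDiagonalizable_of_isDiag
    (Groth.Agent.Sga3.H809.Main.isDiag_of_isMultTypeConst k K A h)
  let π' : K ⊗[k] A →ₐc[K] K ⊗[k] B := Bialgebra.TensorProduct.map (BialgHom.id K K) π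
  have hπ' : Function.Surjective π' := by
    have := LinearMap.lTensor_surjective K (g := (π : A →ₗ[k] B)) hπ
    exact this
  exact ⟨K, inferInstance, inferInstance, inferInstance,
    Groth.Agent.Sga3.H793.MultPart.isDiag_of_isDiagonalizable (isDiagonalizable_of_surjective π' hπ' h1)⟩

open Groth.Agent.Sga3.H829.MultConv Groth.Agent.Sga3.H829.Central

theorem isMultTypeFT_of_closed {k : Type u} [Field k] {T C : Over (Spec (CommRingCat.of k))} [GrpObj T] [GrpObj C]
    (hT : SGA3x.IsMultTypeFT T) (i : C ⟶ T) [IsMonHom i] [IsClosedImmersion i.left] : SGA3x.IsMultTypeFT C := by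
  have haffT : IsAffineHom T.hom := isAffineHom_of_isMultTypeFT hT
  have haffT' : IsAffine T.left := isAffine_of_isAffineHom T.hom
  have haffC : IsAffine C.left := isAffine_of_isAffineHom i.left
  obtain ⟨A, _, _, eT, heT⟩ := exists_hopf k T
  obtain ⟨B, _, _, eC, heC⟩ := exists_hopf k C
  have hA : SGA3x.IsMultTypeFT (SpecOver k A) := isMultTypeFT_of_iso' eT hT
  have hft : Algebra.FiniteType k A := by
    have h2 : LocallyOfFiniteType (Spec.map (CommRingCat.ofHom (algebraMap k A))) :=
      K6.Basic.locallyOfFiniteType_of_isMultTypeFT hA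
    rw [HasRingHomProperty.Spec_iff (P := @LocallyOfFiniteType)] at h2
    exact (RingHom.finiteType_algebraMap).mp h2
  have i1 : IsMonHom (eC.inv ≫ i ≫ eT.hom) := inferInstance
  obtain ⟨π, hπ⟩ := exists_bialgHom_of_isMonHom k (eC.inv ≫ i ≫ eT.hom)
  have hcl : IsClosedImmersion (specMap k (π : A →ₐ[k] B)).left := by
    rw [hπ, Over.comp_left, Over.comp_left]
    infer_instance
  have hsurj : Function.Surjective π := by
    have h3 : IsClosedImmersion (Spec.map (CommRingCat.ofHom ((π : A →ₐ[k] B) : A →+* B))) := hcl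
    have h4 := (IsClosedImmersion.isAffine_surjective_of_isAffine
      (Spec.map (CommRingCat.ofHom ((π : A →ₐ[k] B) : A →+* B)))).2
    have h5 := Scheme.ΓSpecIso_inv_naturality (CommRingCat.ofHom ((π : A →ₐ[k] B) : A →+* B))
    intro b
    obtain ⟨a, ha⟩ := h4 ((Scheme.ΓSpecIso (CommRingCat.of B)).inv b)
    obtain ⟨a', rfl⟩ := (Scheme.ΓSpecIso (CommRingCat.of A)).symm.commRingCatIsoToRingEquiv.surjective a
    refine ⟨a', (Scheme.ΓSpecIso (CommRingCat.of B)).symm.commRingCatIsoToRingEquiv.injective ?_⟩
    have h6 := congr($h5 a')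
    exact h6.trans ha
  have hftB : Algebra.FiniteType k B := Algebra.FiniteType.of_surjective (π : A →ₐ[k] B) hsurj
  have hB : SGA3x.IsMultTypeFT (SpecOver k B) :=
    isMultTypeFT_of_isMultTypeConst (isMultTypeConst_of_surjective π hsurj (isMultTypeConst_of_isMultTypeFT hA))
  have i2 : IsMonHom eC.symm.hom := inferInstanceAs (IsMonHom eC.inv)
  exact isMultTypeFT_of_iso' eC.symm hB

theorem isMultTypeFT_of_isTorus {S : Scheme.{u}} {T : Over S} [GrpObj T] (h : Red.IsTorus T) :
    SGA3x.IsMultTypeFT T := by
  obtain ⟨S', f, hf, hs, hc, h⟩ := h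
  refine ⟨S', f, hf, hs, hc, fun s' => ?_⟩
  obtain ⟨U, hU, r, hr⟩ := h s'
  exact ⟨U, hU, Fin r → ℤ, inferInstance, inferInstance, hr⟩

end K543.MultSub
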