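import Groth.Agent.Books.ComodSocle
import Groth.Agent.Books.DynBasic
import Mathlib.Tactic.NoncommRing
import Mathlib.GroupTheory.Nilpotent
import Mathlib.Algebra.CharP.Lemmas

/-!
# Points of a unipotent group: nilpotency, and `p`-power torsion in characteristic `p`

* `K543.UnipConv.lowerCentralSeries_eq_bot` : the groups of points of a unipotent affine algebraic group are
  nilpotent of bounded class;
* `K543.UnipConv.pow_eq_one` : in characteristic `p` they are killed by a fixed power of `p`.
-/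

set_option autoImplicit false

universe u v

open TensorProduct HopfRep WithConv Coalgebra
open scoped commutatorElement

namespace K543.UnipConv

open Groth.Agent.Books

section filt

variable {k : Type u} [Field k] {A : Type u} [CommRing A] [HopfAlgebra k A] {R : Type u} [CommRing R] [Algebra k R]

/-- Functionals killing the `n`-th step of the socle filtration. -/
def Kills (n : ℕ) (f : WithConv (A →ₗ[k] R)) : Prop := ∀ a ∈ ComodSocle.soc k A A n, f a = 0

lemma kills_zero (f : WithConv (A →ₗ[k] R)) : Kills 0 f := by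
  intro a ha
  have : a = 0 := ha
  rw [this]
  exact map_zero f.ofConv

lemma Kills.mono {m n : ℕ} (h : m ≤ n) {f : WithConv (A →ₗ[k] R)} (hf : Kills n f) : Kills m f :=
  fun a ha => hf a (ComodSocle.soc_mono h ha)

lemma Kills.add {n : ℕ} {f g : WithConv (A →ₗ[k] R)} (hf : Kills n f) (hg : Kills n g) : Kills n (f + g) := by
  intro a ha
  change f a + g a = 0
  rw [hf a ha, hg a ha, add_zero]

lemma Kills.neg {n : ℕ} {f : WithConv (A →ₗ[k] R)} (hf : Kills n f) : Kills n (-f) := by
  intro a ha
  change -(f a) = 0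
  rw [hf a ha, neg_zero]

lemma Kills.sub {n : ℕ} {f g : WithConv (A →ₗ[k] R)} (hf : Kills n f) (hg : Kills n g) : Kills n (f - g) := by
  intro a ha
  change f a - g a = 0
  rw [hf a ha, hg a ha, sub_zero]

theorem Kills.mul {m n : ℕ} {f g : WithConv (A →ₗ[k] R)} (hf : Kills m f) (hg : Kills n g) :
    Kills (m + n) (f * g) := by
  rcases Nat.eq_zero_or_pos (m + n) with h0 | h0
  · rw [h0]; exact kills_zero _
  intro a ha
  obtain ⟨r, hr⟩ : ∃ r, m + n = r + 1 := ⟨m + n - 1, by omega⟩
  rw [hr] at ha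
  have h1 := ComodSocle.comul_mem r a ha
  rw [LinearMap.convMul_apply]
  have h2 : (⨆ i ∈ Finset.range (r + 1),
      LinearMap.range (TensorProduct.mapIncl (ComodSocle.soc k A A (i + 1)) (ComodSocle.soc k A A (r - i + 1)))) ≤
      LinearMap.ker (LinearMap.mul' k R ∘ₗ TensorProduct.map f.ofConv g.ofConv) := by
    refine iSup₂_le fun i hi => ?_
    rw [Finset.mem_range] at hi
    rintro _ ⟨y, rfl⟩
    rw [LinearMap.mem_ker]
    induction y with
    | zero => simp
    | add x y hx hy => rw [map_add, map_add, hx, hy, add_zero]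
    | tmul x y =>
      rw [TensorProduct.mapIncl, TensorProduct.map_tmul, LinearMap.comp_apply, TensorProduct.map_tmul,
        LinearMap.mul'_apply]
      by_cases him : i + 1 ≤ m
      · have : f.ofConv (x : A) = 0 := hf.mono him _ x.2
        rw [Submodule.subtype_apply, this, zero_mul]
      · have : g.ofConv (y : A) = 0 := hg.mono (by omega) _ y.2
        rw [Submodule.subtype_apply, Submodule.subtype_apply, this, mul_zero]
  exact h2 h1

lemma kills_pow {f : WithConv (A →ₗ[k] R)} (hf : Kills 1 f) (n : ℕ) : Kills n (f ^ n) := by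
  induction n with
  | zero => exact kills_zero _
  | succ n ih => rw [pow_succ]; exact ih.mul hf

/-- The linear functional underlying a point. -/
def lin (g : WithConv (A →ₐ[k] R)) : WithConv (A →ₗ[k] R) := toConv g.ofConv.toLinearMap

lemma lin_apply (g : WithConv (A →ₐ[k] R)) (a : A) : lin g a = g a := rfl

lemma lin_one : lin (1 : WithConv (A →ₐ[k] R)) = 1 := rfl

lemma lin_mul (g h : WithConv (A →ₐ[k] R)) : lin (g * h) = lin g * lin h := rfl

lemma lin_pow (g : WithConv (A →ₐ[k] R)) (n : ℕ) : lin (g ^ n) = lin g ^ n := by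
  induction n with
  | zero => rw [pow_zero, pow_zero, lin_one]
  | succ n ih => rw [pow_succ, pow_succ, lin_mul, ih]

lemma kills_lin_sub (g : WithConv (A →ₐ[k] R)) : Kills 1 (lin g - 1) := by
  intro a ha
  rw [ComodSocle.soc_one_regular, Submodule.mem_span_singleton] at ha
  obtain ⟨c, rfl⟩ := ha
  change (lin g - 1).ofConv (c • (1 : A)) = 0
  rw [map_smul]
  have h1 : (lin g - 1).ofConv (1 : A) = g.ofConv 1 - (1 : WithConv (A →ₐ[k] R)).ofConv 1 := rfl
  rw [h1, map_one, map_one, sub_self, smul_zero]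

lemma lin_inv_mul (g : WithConv (A →ₐ[k] R)) : lin g⁻¹ * lin g = 1 := by
  rw [← lin_mul, inv_mul_cancel, lin_one]

lemma lin_mul_inv (g : WithConv (A →ₐ[k] R)) : lin g * lin g⁻¹ = 1 := by
  rw [← lin_mul, mul_inv_cancel, lin_one]

variable (k A R) in
/-- The filtration of the group of points. -/
def filt (n : ℕ) : Subgroup (WithConv (A →ₐ[k] R)) where
  carrier := {g | Kills n (lin g - 1)}
  one_mem' := by
    change Kills n (lin 1 - 1)
    rw [lin_one, sub_self]
    intro a _
    rfl
  mul_mem' := by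
    intro g h hg hh
    change Kills n (lin (g * h) - 1)
    have : lin (g * h) - 1 = (lin g - 1) * lin h + (lin h - 1) := by
      rw [lin_mul, sub_mul, one_mul]; abel
    rw [this]
    exact (Kills.mul hg (kills_zero (lin h))).add hh
  inv_mem' := by
    intro g hg
    change Kills n (lin g⁻¹ - 1)
    have : lin g⁻¹ - 1 = - (lin g⁻¹ * (lin g - 1)) := by
      rw [mul_sub, lin_inv_mul, mul_one]; abel
    rw [this]
    have h1 := (kills_zero (lin g⁻¹)).mul hg
    rw [zero_add] at h1
    exact h1.neg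

lemma mem_filt {n : ℕ} {g : WithConv (A →ₐ[k] R)} : g ∈ filt k A R n ↔ Kills n (lin g - 1) := Iff.rfl

lemma filt_one : filt k A R 1 = ⊤ := by
  rw [eq_top_iff]
  exact fun g _ => kills_lin_sub g

lemma commutator_le (n : ℕ) : ⁅filt k A R n, (⊤ : Subgroup (WithConv (A →ₐ[k] R)))⁆ ≤ filt k A R (n + 1) := by
  rw [Subgroup.commutator_le]
  intro g hg h _
  rw [mem_filt] at hg ⊢
  have hh := kills_lin_sub h
  have h1 : lin ⁅g, h⁆ - 1 = ((lin g - 1) * (lin h - 1) - (lin h - 1) * (lin g - 1)) * (lin g⁻¹ * lin h⁻¹) := by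
    have h2 : ((lin g - 1) * (lin h - 1) - (lin h - 1) * (lin g - 1)) = lin g * lin h - lin h * lin g := by
      noncomm_ring
    rw [h2, sub_mul, commutatorElement_def, lin_mul, lin_mul, lin_mul, ← mul_assoc]
    have h3 : lin h * lin g * (lin g⁻¹ * lin h⁻¹) = 1 := by
      rw [mul_assoc, ← mul_assoc (lin g), lin_mul_inv, one_mul, lin_mul_inv]
    rw [h3]
  rw [h1]
  have h4 := (hg.mul hh).sub (by rw [add_comm]; exact hh.mul hg)
  exact h4.mul (kills_zero _)

theorem lowerCentralSeries_le (n : ℕ) :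
    (⊤ : Subgroup (WithConv (A →ₐ[k] R))).lowerCentralSeries n ≤ filt k A R (n + 1) := by
  induction n with
  | zero => rw [filt_one]; exact le_top
  | succ n ih =>
    change ⁅(⊤ : Subgroup (WithConv (A →ₐ[k] R))).lowerCentralSeries n, ⊤⁆ ≤ _
    exact (Subgroup.commutator_mono ih le_rfl).trans (commutator_le (n + 1))

theorem eq_one_of_mem {n : ℕ} {S : Set A} (hS : Algebra.adjoin k S = ⊤)
    (hSn : ∀ s ∈ S, s ∈ ComodSocle.soc k A A n) {g : WithConv (A →ₐ[k] R)} (hg : g ∈ filt k A R n) : g = 1 := by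
  apply WithConv.ofConv_injective
  apply AlgHom.ext_of_adjoin_eq_top hS
  intro s hs
  have h1 := hg s (hSn s hs)
  have h2 : (lin g - 1) s = g.ofConv s - (1 : WithConv (A →ₐ[k] R)).ofConv s := rfl
  rw [h2, sub_eq_zero] at h1
  exact h1

end filt

section main

variable (k : Type u) [Field k] (A : Type u) [CommRing A] [HopfAlgebra k A] [Algebra.FiniteType k A]

theorem exists_soc (h : IsUnipotent k A) : ∃ (n : ℕ) (S : Set A), Algebra.adjoin k S = ⊤ ∧
    ∀ s ∈ S, s ∈ ComodSocle.soc k A A n := by
  classical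
  rw [ComodSocle.isUnipotent_iff] at h
  obtain ⟨S, hS⟩ := (inferInstance : Algebra.FiniteType k A).out
  choose n hn using h
  refine ⟨S.sup n, S, hS, fun s hs => ComodSocle.soc_mono (Finset.le_sup hs) (hn s)⟩

/-- Groups of points of a unipotent algebraic group are nilpotent of bounded class. -/
theorem lowerCentralSeries_eq_bot (h : IsUnipotent k A) : ∃ n : ℕ, ∀ (R : Type u) [CommRing R] [Algebra k R],
    (⊤ : Subgroup (WithConv (A →ₐ[k] R))).lowerCentralSeries n = ⊥ := by
  obtain ⟨n, S, hS, hSn⟩ := exists_soc k A h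
  refine ⟨n, fun R _ _ => ?_⟩
  rw [eq_bot_iff]
  intro g hg
  rw [Subgroup.mem_bot]
  exact eq_one_of_mem hS (fun s hs => ComodSocle.soc_mono (Nat.le_succ n) (hSn s hs)) (lowerCentralSeries_le n hg)

/-- In characteristic `p` the groups of points of a unipotent algebraic group are killed by a power of `p`. -/
theorem pow_eq_one (p : ℕ) [hp : Fact p.Prime] [CharP k p] (h : IsUnipotent k A) :
    ∃ n : ℕ, ∀ (R : Type u) [CommRing R] [Algebra k R] (g : WithConv (A →ₐ[k] R)), g ^ p ^ n = 1 := by
  obtain ⟨n, S, hS, hSn⟩ := exists_soc k A h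
  refine ⟨n, fun R _ _ g => ?_⟩
  have hle : n ≤ p ^ n := (Nat.lt_pow_self hp.out.one_lt).le
  refine eq_one_of_mem hS (fun s hs => ComodSocle.soc_mono hle (hSn s hs)) ?_
  rw [mem_filt]
  have h1 : lin (g ^ p ^ n) - 1 = (lin g - 1) ^ p ^ n := by
    obtain ⟨r, hr⟩ := (Commute.one_right (lin g - 1)).exists_add_pow_prime_pow_eq hp.out n
    rw [sub_add_cancel, one_pow, ← lin_pow] at hr
    have h2 : (p : WithConv (A →ₗ[k] R)) = 0 := by
      have h3 : (p : WithConv (A →ₗ[k] R)) = algebraMap k (WithConv (A →ₗ[k] R)) (p : k) := by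
        rw [map_natCast]
      rw [h3, CharP.cast_eq_zero, map_zero]
    rw [h2, zero_mul, zero_mul, zero_mul, add_zero] at hr
    rw [hr, add_sub_cancel_right]
  rw [h1]
  exact kills_pow (kills_lin_sub g) _

end main

end K543.UnipConv
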