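import Groth.Agent.PRed.K543.UnipHopf
import Groth.Agent.PRed.K543.UnipConv
import Groth.Agent.Sga3B.RadOpen.PtTorus
import Groth.Agent.Sga3B.BcSpec892
import Groth.Agent.Sga3B.AffPts
import Groth.Agent.Sga3.H809.Main
import Groth.Agent.Agf.H609.SchGlue
import Groth.Agent.Sga3A.FibDomain2

/-!
# Smooth connected affine groups over a field whose geometric fibre contains no torus

* `K543.UnipPts.isUnipotent_of_hasNoSubtorus` : they are unipotent (fixed vector form);
* `K543.UnipPts.lowerCentralSeries_eq_bot` : their groups of points are nilpotent of bounded class;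
* `K543.UnipPts.pow_eq_one` : in characteristic `p` their groups of points are killed by a fixed power of `p`.
-/

set_option autoImplicit false

universe u

open CategoryTheory MonoidalCategory CartesianMonoidalCategory MonObj GrpObj AlgebraicGeometry
open TensorProduct HopfRep WithConv
open Groth.Agent Groth.Agent.Books.AffBridge Groth.Agent.Books.AffBridge2 Groth.Agent.Sga3B Groth.Agent.Sga3B.AffPts
  Groth.Agent.Agf.H609.SchGlue

namespace K543.UnipPts

theorem isUnipotent_of_hasNoSubtorus {k : Type u} [Field k] {A : Type u} [CommRing A] [HopfAlgebra k A]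
    [Smooth (SpecOver k A).hom] [ConnectedSpace ↥(SpecOver k A).left]
    (h : ∀ s : ↥(Spec (CommRingCat.of k)),
      Red.HasNoSubtorus (AlgebraicClosure ((Spec (CommRingCat.of k)).residueField s)) (Red.geomFibre s (SpecOver k A))) :
    IsUnipotent k A := by
  have hsm : Algebra.Smooth k A := (smooth_specOver_iff k A).1 inferInstance
  have hft : Algebra.FiniteType k A := inferInstance
  have hcon : ConnectedSpace (PrimeSpectrum A) := ‹ConnectedSpace ↥(SpecOver k A).left›
  let s : ↥(Spec (CommRingCat.of k)) := IsLocalRing.closedPoint k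
  have hdom : IsDomain (Om k s ⊗[k] A) := Sga3.H809.Main.isDomain_bc k (Om k s) A
    (fun e he => Sga3A.FibDomain.idem_trivial he)
  obtain ⟨e, he⟩ := BcSpec892.exists_iso k (Om k s) A
  have h1 : Red.HasNoSubtorus (Om k s) (SpecOver (Om k s) (Om k s ⊗[k] A)) := by
    apply RadOpen.hasNoSubtorus_of_iso e
    rw [spec_map_algebraMap]
    exact h s
  have hsm' : Smooth (SpecOver (Om k s) (Om k s ⊗[k] A)).hom := (smooth_specOver_iff _ _).2 inferInstance
  have hcon' : ConnectedSpace ↥(SpecOver (Om k s) (Om k s ⊗[k] A)).left :=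
    inferInstanceAs (ConnectedSpace (PrimeSpectrum (Om k s ⊗[k] A)))
  have h2 := RadOpen.isUnip_of_hasNoSubtorus (𝟙 (SpecOver (Om k s) (Om k s ⊗[k] A))) h1
  apply UnipHopf.isUnipotent_of_baseChange (Om k s)
  apply UnipHopf.isUnipotent_of_isUnip
  intro g
  exact h2 g ⟨RG.BrPts.ptEquiv _ _ g, Category.comp_id _⟩

/-- The groups of points of a unipotent affine algebraic group are nilpotent of bounded class. -/
theorem lowerCentralSeries_eq_bot_of_isUnipotent {k : Type u} [Field k] {A : Type u} [CommRing A] [HopfAlgebra k A]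
    [Algebra.FiniteType k A] (hA : IsUnipotent k A) {U : Over (Spec (CommRingCat.of k))} [GrpObj U]
    (e : U ≅ SpecOver k A) [IsMonHom e.hom] :
    ∃ n : ℕ, ∀ X : Over (Spec (CommRingCat.of k)), (⊤ : Subgroup (X ⟶ U)).lowerCentralSeries n = ⊥ := by
  obtain ⟨n, hn⟩ := UnipConv.lowerCentralSeries_eq_bot k A hA
  refine ⟨n, fun X => ?_⟩
  let f : (X ⟶ U) →* WithConv (A →ₐ[k] Fn X) :=
    (affEquiv X).symm.toMonoidHom.comp
      { toFun := fun x => x ≫ e.hom
        map_one' := MonObj.one_comp _
        map_mul' := fun x y => MonObj.mul_comp _ _ _ }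
  have hf : Function.Injective f := by
    intro x y hxy
    have h1 : x ≫ e.hom = y ≫ e.hom := (affEquiv X).symm.injective hxy
    exact (cancel_mono _).1 h1
  have h2 : ∀ m, ∀ x ∈ (⊤ : Subgroup (X ⟶ U)).lowerCentralSeries m,
      f x ∈ (⊤ : Subgroup (WithConv (A →ₐ[k] Fn X))).lowerCentralSeries m := by
    intro m
    induction m with
    | zero => intro x _; trivial
    | succ m ih =>
      intro x hx
      change f x ∈ ⁅(⊤ : Subgroup (WithConv (A →ₐ[k] Fn X))).lowerCentralSeries m, ⊤⁆
      change x ∈ ⁅(⊤ : Subgroup (X ⟶ U)).lowerCentralSeries m, ⊤⁆ at hx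
      have h3 := Subgroup.mem_map_of_mem f hx
      rw [Subgroup.map_commutator] at h3
      refine Subgroup.commutator_mono ?_ le_top h3
      rintro _ ⟨y, hy, rfl⟩
      exact ih y hy
  rw [eq_bot_iff]
  intro x hx
  have h3 := h2 n x hx
  rw [hn, Subgroup.mem_bot] at h3
  rw [Subgroup.mem_bot]
  exact hf (h3.trans (map_one f).symm)

theorem pow_eq_one_of_isUnipotent {k : Type u} [Field k] (p : ℕ) [Fact p.Prime] [CharP k p]
    {A : Type u} [CommRing A] [HopfAlgebra k A]
    [Algebra.FiniteType k A] (hA : IsUnipotent k A) {U : Over (Spec (CommRingCat.of k))} [GrpObj U]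
    (e : U ≅ SpecOver k A) [IsMonHom e.hom] :
    ∃ n : ℕ, ∀ (X : Over (Spec (CommRingCat.of k))) (g : X ⟶ U), g ^ p ^ n = 1 := by
  obtain ⟨n, hn⟩ := UnipConv.pow_eq_one k A p hA
  refine ⟨n, fun X g => ?_⟩
  have h1 : (g ^ p ^ n) ≫ e.hom = 1 := by
    obtain ⟨γ, hγ⟩ := (affEquiv X).surjective (g ≫ e.hom)
    rw [MonObj.pow_comp, ← hγ, ← map_pow, hn, map_one]
  rw [← cancel_mono e.hom, h1, MonObj.one_comp]

variable {k : Type u} [Field k] (U : Over (Spec (CommRingCat.of k))) [GrpObj U] [IsAffine U.left]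
  [Smooth U.hom] [ConnectedSpace ↥U.left]

/-- A smooth connected affine group over a field whose geometric fibre contains no torus is the spectrum of a
unipotent Hopf algebra. -/
theorem exists_isUnipotent
    (h : ∀ s : ↥(Spec (CommRingCat.of k)),
      Red.HasNoSubtorus (AlgebraicClosure ((Spec (CommRingCat.of k)).residueField s)) (Red.geomFibre s U)) :
    ∃ (A : Type u) (_ : CommRing A) (_ : HopfAlgebra k A) (e : U ≅ SpecOver k A),
      IsMonHom e.hom ∧ Algebra.Smooth k A ∧ IsUnipotent k A := by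
  obtain ⟨A, _, _, e, he⟩ := exists_hopf k U
  have hsm : Smooth (SpecOver k A).hom := by
    rw [hom_eq_of_iso e.symm]; infer_instance
  have hcon : ConnectedSpace ↥(SpecOver k A).left :=
    (Scheme.homeoOfIso (asIso e.hom.left)).surjective.connectedSpace
      (Scheme.homeoOfIso (asIso e.hom.left)).continuous
  refine ⟨A, inferInstance, inferInstance, e, he, (smooth_specOver_iff k A).1 hsm, ?_⟩
  apply isUnipotent_of_hasNoSubtorus
  intro s
  let e' : Red.geomFibre s U ≅ Red.geomFibre s (SpecOver k A) := (Over.pullback (Red.geomPt s)).mapIso e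
  have he' : IsMonHom e'.hom := inferInstanceAs (IsMonHom ((Over.pullback (Red.geomPt s)).map e.hom))
  exact RadOpen.hasNoSubtorus_of_iso e' (h s)

theorem lowerCentralSeries_eq_bot
    (h : ∀ s : ↥(Spec (CommRingCat.of k)),
      Red.HasNoSubtorus (AlgebraicClosure ((Spec (CommRingCat.of k)).residueField s)) (Red.geomFibre s U)) :
    ∃ n : ℕ, ∀ X : Over (Spec (CommRingCat.of k)), (⊤ : Subgroup (X ⟶ U)).lowerCentralSeries n = ⊥ := by
  obtain ⟨A, _, _, e, he, _, hA⟩ := exists_isUnipotent U h
  exact lowerCentralSeries_eq_bot_of_isUnipotent hA e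

theorem pow_eq_one (p : ℕ) [Fact p.Prime] [CharP k p]
    (h : ∀ s : ↥(Spec (CommRingCat.of k)),
      Red.HasNoSubtorus (AlgebraicClosure ((Spec (CommRingCat.of k)).residueField s)) (Red.geomFibre s U)) :
    ∃ n : ℕ, ∀ (X : Over (Spec (CommRingCat.of k))) (g : X ⟶ U), g ^ p ^ n = 1 := by
  obtain ⟨A, _, _, e, he, _, hA⟩ := exists_isUnipotent U h
  exact pow_eq_one_of_isUnipotent p hA e

end K543.UnipPts
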