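import Groth.Agent.Sga3C.ClosedSub
import Groth.Prelude.Def_Red2
import Mathlib.AlgebraicGeometry.Morphisms.Separated

/-!
# A small tool kit for closed subgroup schemes described by their points

* `K543.Kit.exists_grpObj_of_points` : a subobject whose points form subgroups is a subgroup object;
* `K543.Kit.exists_kernel` : the kernel of a homomorphism to a separated group scheme, as a closed subgroup scheme,
  described by its points.
-/

set_option autoImplicit false
universe u v w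
open CategoryTheory MonoidalCategory CartesianMonoidalCategory MonObj GrpObj AlgebraicGeometry
open Groth.Agent.Sga3C.ClosedSub

namespace K543.Kit

section cat

variable {C : Type u} [Category.{v} C] [CartesianMonoidalCategory C] {G Z : C} [GrpObj G]

/-- A subobject whose points form subgroups is a subgroup object. -/
theorem exists_grpObj_of_points (z : Z ⟶ G) [Mono z] (P : ∀ {T : C}, (T ⟶ G) → Prop)
    (hP : ∀ {T : C} (g : T ⟶ G), (∃ w : T ⟶ Z, w ≫ z = g) ↔ P g)
    (h1 : P (1 : 𝟙_ C ⟶ G)) (hmul : ∀ {T : C} (g h : T ⟶ G), P g → P h → P (g * h))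
    (hinv : ∀ {T : C} (g : T ⟶ G), P g → P g⁻¹) : ∃ _ : GrpObj Z, IsMonHom z := by
  apply exists_grpObj_of_mono
  · obtain ⟨w, hw⟩ := (hP (1 : 𝟙_ C ⟶ G)).2 h1
    exact ⟨w, by rw [hw, Hom.one_def]; simp⟩
  · have h : (z ⊗ₘ z) ≫ μ[G] = (fst Z Z ≫ z) * (snd Z Z ≫ z) := by
      rw [Hom.mul_def]; congr 1; ext <;> simp
    rw [h]
    exact (hP _).2 (hmul _ _ ((hP _).1 ⟨_, rfl⟩) ((hP _).1 ⟨_, rfl⟩))
  · have h : z ≫ ι[G] = z⁻¹ := by rw [Hom.inv_def]
    rw [h]
    exact (hP _).2 (hinv _ ((hP _).1 ⟨𝟙 _, Category.id_comp _⟩))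

/-- The power map of a commutative group object is a homomorphism. -/
theorem isMonHom_pow (hcomm : ∀ (T : C) (g h : T ⟶ G), g * h = h * g) (n : ℕ) :
    IsMonHom ((𝟙 G : G ⟶ G) ^ n) where
  one_hom := by
    rw [MonObj.comp_pow, Category.comp_id, MonObj.one_eq_one, one_pow]
  mul_hom := by
    rw [MonObj.comp_pow, Category.comp_id, MonObj.mul_eq_mul]
    have h : Commute (fst G G : G ⊗ G ⟶ G) (snd G G) := hcomm _ _ _
    rw [h.mul_pow, MonObj.comp_mul]
    congr 1
    · simp [MonObj.comp_pow]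
    · simp [MonObj.comp_pow]

end cat

section scheme

variable {S : Scheme.{u}}

/-- The kernel of a homomorphism `u : G ⟶ H` with `H` separated over `S`. -/
theorem exists_kernel {G H : Over S} [GrpObj G] [GrpObj H] (u : G ⟶ H) [IsMonHom u] [IsSeparated H.hom] :
    ∃ (K : Over S) (_ : GrpObj K) (i : K ⟶ G), IsMonHom i ∧ IsClosedImmersion i.left ∧
      ∀ {T : Over S} (g : T ⟶ G), (∃ w : T ⟶ K, w ≫ i = g) ↔ g ≫ u = 1 := by
  let i : Limits.pullback u (η[H] : 𝟙_ (Over S) ⟶ H) ⟶ G := Limits.pullback.fst u η[H]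
  have hη : IsClosedImmersion (η[H] : 𝟙_ (Over S) ⟶ H).left := by
    have h1 : (η[H] : 𝟙_ (Over S) ⟶ H).left ≫ H.hom = 𝟙 _ := Over.w (η[H] : 𝟙_ (Over S) ⟶ H)
    have h2 : IsClosedImmersion ((η[H] : 𝟙_ (Over S) ⟶ H).left ≫ H.hom) := by rw [h1]; infer_instance
    exact IsClosedImmersion.of_comp _ H.hom
  have hi : IsClosedImmersion i.left := by
    have h1 := (IsPullback.of_hasPullback u (η[H] : 𝟙_ (Over S) ⟶ H)).map (Over.forget S)
    exact MorphismProperty.of_isPullback h1.flip hη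
  have hm : Mono i := mono_of_left i
  have hP : ∀ {T : Over S} (g : T ⟶ G), (∃ w : T ⟶ _, w ≫ i = g) ↔ g ≫ u = 1 := by
    intro T g
    constructor
    · rintro ⟨w, rfl⟩
      rw [Category.assoc, Limits.pullback.condition, Hom.one_def, ← Category.assoc]
      congr 1
      exact toUnit_unique _ _
    · intro h
      rw [Hom.one_def] at h
      exact ⟨Limits.pullback.lift g (toUnit T) h, Limits.pullback.lift_fst _ _ _⟩
  obtain ⟨h1, h2⟩ := exists_grpObj_of_points i (fun {T} g => g ≫ u = 1) hP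
    (MonObj.one_comp u) (fun g h hg hh => by rw [MonObj.mul_comp, hg, hh, _root_.mul_one])
    (fun g hg => by rw [GrpObj.inv_comp, hg, inv_one])
  exact ⟨_, h1, i, h2, hi, hP⟩

end scheme

end K543.Kit
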