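import Groth.Agent.Sga3.H793.UnipPart2
import Groth.Agent.Sga3B.RG.Kolchin
import Groth.Agent.Sga3B.RG.FaithRep

/-!
# Groups all of whose geometric points are unipotent are unipotent (fixed vector form)

* `K543.UnipHopf.isUnipotent_of_isUnip` : over an algebraically closed field;
* `K543.UnipHopf.isUnipotent_of_baseChange` : descent of unipotence along a field extension.
-/

set_option autoImplicit false

universe u v

open TensorProduct HopfRep WithConv

namespace K543.UnipHopf

open Groth.Agent.Sga3A.ComodBasic Groth.Agent.Sga3A.ComodUnip Groth.Agent.Sga3.H793.UnipPart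
  Groth.Agent.Sga3.H793.UnipPart2 Groth.Agent.Sga3B.RG

section closed

variable {K : Type u} [Field K] [IsAlgClosed K] {A : Type u} [CommRing A] [HopfAlgebra K A] [Algebra.FiniteType K A]
  [IsReduced A]

omit [IsAlgClosed K] [Algebra.FiniteType K A] [IsReduced A] in
theorem contract_comm (P : Submodule K A) (f : Module.Dual K (A ⧸ P)) (g : A →ₗ[K] K) (z : A ⊗[K] A) :
    f (P.mkQ (TensorProduct.rid K A (LinearMap.lTensor A g z))) =
      g (TensorProduct.lid K A (LinearMap.rTensor A (f ∘ₗ P.mkQ) z)) := by
  induction z with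
  | zero => simp
  | add x y hx hy => simp only [map_add, hx, hy]
  | tmul x y => simp [mul_comm]

/-- Membership in `P ⊗ A` is detected by the points of the group. -/
theorem mem_range_of_pts (P : Submodule K A) (z : A ⊗[K] A)
    (h : ∀ g : Pt K A, TensorProduct.rid K A (LinearMap.lTensor A g.ofConv.toLinearMap z) ∈ P) :
    z ∈ LinearMap.range (P.subtype.rTensor A) := by
  rw [mem_range_rTensor_iff]
  intro g
  rw [← Submodule.Quotient.mk_eq_zero, ← Submodule.mkQ_apply, ← Module.forall_dual_apply_eq_zero_iff K]
  intro f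
  have hc : TensorProduct.lid K A (LinearMap.rTensor A (f ∘ₗ P.mkQ) z) = 0 := by
    apply eq_zero_of_forall_pt (K := K)
    intro x
    have h1 := h x
    rw [← Submodule.Quotient.mk_eq_zero, ← Submodule.mkQ_apply] at h1
    have h2 := contract_comm P f x.ofConv.toLinearMap z
    rw [h1, map_zero] at h2
    exact h2.symm
  rw [contract_comm, hc, map_zero]

/-- A group whose points are all unipotent is unipotent. -/
theorem isUnipotent_of_isUnip (h : ∀ g : Pt K A, IsUnip g) : IsUnipotent K A := by
  rw [isUnipotent_iff_soc]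
  intro a
  obtain ⟨W, hWf, haW, hW⟩ := exists_stable_submodule (K := K) a
  obtain ⟨r, hr⟩ := exists_uflag_eq_top (subRTr W hW) ⊤ (fun g _ => isNilpotent_subRTr hW (h g))
  have key : ∀ n (w : W), w ∈ uflag (subRTr W hW) ⊤ n → (w : A) ∈ soc K A A n := by
    intro n
    induction n with
    | zero =>
      intro w hw
      rw [uflag_zero, Submodule.mem_bot] at hw
      rw [mem_soc_zero, hw, Submodule.coe_zero]
    | succ n ih =>
      intro w hw
      rw [mem_uflag_succ] at hw
      rw [mem_soc_succ_iff]
      apply mem_range_of_pts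
      intro g
      have h1 := ih _ (hw g trivial)
      rw [Submodule.coe_sub, subRTr_apply] at h1
      convert h1 using 1
      rw [map_sub, map_sub]
      congr 1
      simp
  refine ⟨r, key r ⟨a, haW⟩ ?_⟩
  rw [hr]
  trivial

end closed

section descent

variable {k : Type u} [Field k] {A : Type u} [CommRing A] [Bialgebra k A]
  (K : Type u) [Field K] [Algebra k K]

/-- Unipotence descends along field extensions. -/
theorem isUnipotent_of_baseChange (h : IsUnipotent K (K ⊗[k] A)) : IsUnipotent k A := by
  classical
  rw [isUnipotent_iff_soc] at h ⊢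
  intro a
  obtain ⟨n, hn⟩ := h (1 ⊗ₜ[k] a)
  refine ⟨n, ?_⟩
  let e := Module.Basis.ofVectorSpace k K
  have h1 := repr_mem_soc K e n _ hn
  obtain ⟨i, hi⟩ : ∃ i, e.repr 1 i ≠ 0 := by
    by_contra hcon
    push Not at hcon
    have : e.repr (1 : K) = 0 := Finsupp.ext hcon
    rw [LinearEquiv.map_eq_zero_iff] at this
    exact one_ne_zero this
  have h2 := h1 i
  rw [TensorProduct.equivFinsuppOfBasisLeft_apply_tmul_apply] at h2
  exact (Submodule.smul_mem_iff _ hi).mp h2

end descent

end K543.UnipHopf
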